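import Cfsg.Agent.H16.P.J3C.D0

/-! Generated by tools/h0/tr.py. -/

set_option maxRecDepth 100000
set_option maxHeartbeats 0
set_option Elab.async false

namespace H16.J3C
open H16 H0.TR
open scoped commutatorElement

theorem cn12_1_0 : allZ (cn12.ent H16.J3.P ch_P x_P x_P cce_P (nat_lit 4) (nat_lit 1) H16.J3.B cl0 [cl1, cl2, cl3, cl4, cl5, cl6] (memO ccc0)) (nat_lit 0) (nat_lit 3584) = true := by decide +kernel
theorem cn12_1_1 : allZ (cn12.ent H16.J3.P ch_P x_P x_P cce_P (nat_lit 4) (nat_lit 1) H16.J3.B cl0 [cl1, cl2, cl3, cl4, cl5, cl6] (memO ccc0)) (nat_lit 3584) (nat_lit 2572) = true := by decide +kernel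
theorem cc_f0 : (Nat.ble ccc0.K 7 && Nat.ble (topK [ccc1, ccc2, ccc3, ccc4, ccc6]) ccc0.K && Nat.beq (ccc0.Pt 0) (cl0.Pt 0) && Nat.beq (ltAll 6156 []) 0 && kChk cce_P x_P ccc0.K 1 H16.J3.B []) = true := by decide +kernel
theorem cc_c : chainCard [ccc0, ccc1, ccc2, ccc3, ccc4, ccc6] = 1920 ∧ topK [ccc0, ccc1, ccc2, ccc3, ccc4, ccc6] = 7 := by decide +kernel
theorem ag_k : allZ (fun a => Nat.add (ltAll 5 (nth [] [[nat_lit 0, nat_lit 2, nat_lit 1, nat_lit 4, nat_lit 1, nat_lit 3, nat_lit 4],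
  [nat_lit 0, nat_lit 2, nat_lit 2, nat_lit 4, nat_lit 0, nat_lit 3, nat_lit 1, nat_lit 4],
  [nat_lit 2, nat_lit 4, nat_lit 3, nat_lit 4, nat_lit 2, nat_lit 2, nat_lit 4],
  [nat_lit 1, nat_lit 4, nat_lit 3, nat_lit 1, nat_lit 4, nat_lit 0, nat_lit 2, nat_lit 4],
  [nat_lit 2, nat_lit 4],
  [nat_lit 2, nat_lit 4, nat_lit 1, nat_lit 3],
  [nat_lit 0, nat_lit 4, nat_lit 0, nat_lit 2, nat_lit 4, nat_lit 3, nat_lit 1]] a)) (sumL (fun β => Nat.xor (cce_P a β) (apW a_P (nth [] [[nat_lit 0, nat_lit 2, nat_lit 1, nat_lit 4, nat_lit 1, nat_lit 3, nat_lit 4],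
  [nat_lit 0, nat_lit 2, nat_lit 2, nat_lit 4, nat_lit 0, nat_lit 3, nat_lit 1, nat_lit 4],
  [nat_lit 2, nat_lit 4, nat_lit 3, nat_lit 4, nat_lit 2, nat_lit 2, nat_lit 4],
  [nat_lit 1, nat_lit 4, nat_lit 3, nat_lit 1, nat_lit 4, nat_lit 0, nat_lit 2, nat_lit 4],
  [nat_lit 2, nat_lit 4],
  [nat_lit 2, nat_lit 4, nat_lit 1, nat_lit 3],
  [nat_lit 0, nat_lit 4, nat_lit 0, nat_lit 2, nat_lit 4, nat_lit 3, nat_lit 1]] a) β)) H16.J3.B)) 0 7 = true := by decide +kernel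
theorem az_k : Nat.add (ltAll 5 [nat_lit 2, nat_lit 0, nat_lit 2, nat_lit 4, nat_lit 1, nat_lit 3, nat_lit 4, nat_lit 3, nat_lit 1, nat_lit 4]) (sumL (fun β => Nat.xor (x_P 0 β) (apW a_P [nat_lit 2, nat_lit 0, nat_lit 2, nat_lit 4, nat_lit 1, nat_lit 3, nat_lit 4, nat_lit 3, nat_lit 1, nat_lit 4] β)) H16.J3.B) = 0 := by decide +kernel
theorem ac : H15.CS.comL a_P 5 H16.J3.B H15.XTJ2I.sub_Z = true := by decide +kernel
theorem x2_k : fixL x_P 1 H16.J3.B (List.replicate 2 0) = 0 := by decide +kernel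
theorem x1_k : 0 < 6156 ∧ ltAll 1 (List.replicate 1 0) = 0 ∧ ltAll 1 [] = 0 ∧ apW x_P (List.replicate 1 0) 0 ≠ apW x_P [] 0 := by decide +kernel
theorem st_lt : allL (ltAll 4) st_W = true := by decide +kernel
theorem s_r_a : allZ2 (resEnt st_P sP sE sI (nat_lit 6156) (nat_lit 256)) (nat_lit 7) (nat_lit 256) = true := by decide +kernel
theorem s_b : neL H16.J3.B (sB.map sE) = 0 ∧ ltAll 256 sB = 0 := by decide +kernel
theorem s_p : allZ2 (pcEnt sP (nat_lit 2) sB sC) 7 7 = true := by decide +kernel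
theorem s_e : allL (ltAll 7) se = true := by decide +kernel
theorem sl0_e_0 : allZ (dent sl0 (wdsP sP se) (nat_lit 256)) (nat_lit 0) (nat_lit 127) = true := by decide +kernel
theorem sl0_h : 0 < sl0.n ∧ 0 < sl0.K ∧ sl0.Pt 0 < 256 ∧ sl0.Q (sl0.Pt 0) = 0 := by decide +kernel
theorem s_f0 : (Nat.ble sl0.K 4 && Nat.ble (topK []) sl0.K && fixLetters (wdsP sP se) (topK []) (sl0.Pt 0)) = true := by decide +kernel
theorem s_c : chainCard [sl0] = 2 ^ 7 ∧ ¬ 2 ^ (7 + 1) ∣ 50232960 := by decide +kernel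
theorem cvr_lt : allL (ltAll 4) cvr_W = true := by decide +kernel
theorem cv_c0 : (Nat.ble 7 7 && Nat.beq (ltAll 7 []) 0 && Nat.beq (cvT0.chk H16.J3.P sP cvr_P sE 4 7 2 2 1 sB 7 [] 0) 0) = true := by decide +kernel

end H16.J3C
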