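import Cfsg.Agent.H16.P.J3C.D0

/-! Generated by tools/h0/tr.py. -/

set_option maxRecDepth 100000
set_option maxHeartbeats 0
set_option Elab.async false

namespace H16.J3C
open H16 H0.TR
open scoped commutatorElement

theorem md_b : ltAll 6156 H16.J3.B = 0 ∧ 50232960 ≠ 0 := by decide +kernel
theorem x_lt : allL (ltAll 4) x_W = true := by decide +kernel
theorem a_lt : allL (ltAll 4) a_W = true := by decide +kernel
theorem a_m_0_0 : allZ (matEnt (wdsP H16.J3.P a_W) a_P (nat_lit 0)) (nat_lit 0) (nat_lit 3456) = true := by decide +kernel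
theorem a_m_0_1 : allZ (matEnt (wdsP H16.J3.P a_W) a_P (nat_lit 0)) (nat_lit 3456) (nat_lit 2700) = true := by decide +kernel
theorem a_m_1_0 : allZ (matEnt (wdsP H16.J3.P a_W) a_P (nat_lit 1)) (nat_lit 0) (nat_lit 3392) = true := by decide +kernel
theorem a_m_1_1 : allZ (matEnt (wdsP H16.J3.P a_W) a_P (nat_lit 1)) (nat_lit 3392) (nat_lit 2764) = true := by decide +kernel
theorem a_m_2_0 : allZ (matEnt (wdsP H16.J3.P a_W) a_P (nat_lit 2)) (nat_lit 0) (nat_lit 4032) = true := by decide +kernel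
theorem a_m_2_1 : allZ (matEnt (wdsP H16.J3.P a_W) a_P (nat_lit 2)) (nat_lit 4032) (nat_lit 2124) = true := by decide +kernel
theorem a_m_3_0 : allZ (matEnt (wdsP H16.J3.P a_W) a_P (nat_lit 3)) (nat_lit 0) (nat_lit 4032) = true := by decide +kernel
theorem a_m_3_1 : allZ (matEnt (wdsP H16.J3.P a_W) a_P (nat_lit 3)) (nat_lit 4032) (nat_lit 2124) = true := by decide +kernel
theorem a_m_4_0 : allZ (matEnt (wdsP H16.J3.P a_W) a_P (nat_lit 4)) (nat_lit 0) (nat_lit 4160) = true := by decide +kernel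
theorem a_m_4_1 : allZ (matEnt (wdsP H16.J3.P a_W) a_P (nat_lit 4)) (nat_lit 4160) (nat_lit 1996) = true := by decide +kernel
theorem ar_k : allL (fixL a_P 5 H16.J3.B) H15.XJ2I.Rl = true := by decide +kernel
theorem ch_lt : allL (ltAll 4) ch_W = true := by decide +kernel
theorem cl0_e_0 : allZ (dent cl0 ch_P (nat_lit 6156)) (nat_lit 0) (nat_lit 6155) = true := by decide +kernel
theorem cl0_h : 0 < cl0.n ∧ 0 < cl0.K ∧ cl0.Pt 0 < 6156 ∧ cl0.Q (cl0.Pt 0) = 0 := by decide +kernel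
theorem cl1_e_0 : allZ (dent cl1 ch_P (nat_lit 6156)) (nat_lit 0) (nat_lit 84) = true := by decide +kernel
theorem cl1_h : 0 < cl1.n ∧ 0 < cl1.K ∧ cl1.Pt 0 < 6156 ∧ cl1.Q (cl1.Pt 0) = 0 := by decide +kernel
theorem cl2_e_0 : allZ (dent cl2 ch_P (nat_lit 6156)) (nat_lit 0) (nat_lit 5) = true := by decide +kernel
theorem cl2_h : 0 < cl2.n ∧ 0 < cl2.K ∧ cl2.Pt 0 < 6156 ∧ cl2.Q (cl2.Pt 0) = 0 := by decide +kernel
theorem cl3_e_0 : allZ (dent cl3 ch_P (nat_lit 6156)) (nat_lit 0) (nat_lit 1) = true := by decide +kernel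
theorem cl3_h : 0 < cl3.n ∧ 0 < cl3.K ∧ cl3.Pt 0 < 6156 ∧ cl3.Q (cl3.Pt 0) = 0 := by decide +kernel
theorem cl4_e_0 : allZ (dent cl4 ch_P (nat_lit 6156)) (nat_lit 0) (nat_lit 1) = true := by decide +kernel
theorem cl4_h : 0 < cl4.n ∧ 0 < cl4.K ∧ cl4.Pt 0 < 6156 ∧ cl4.Q (cl4.Pt 0) = 0 := by decide +kernel
theorem cl5_e_0 : allZ (dent cl5 ch_P (nat_lit 6156)) (nat_lit 0) (nat_lit 1) = true := by decide +kernel
theorem cl5_h : 0 < cl5.n ∧ 0 < cl5.K ∧ cl5.Pt 0 < 6156 ∧ cl5.Q (cl5.Pt 0) = 0 := by decide +kernel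
theorem cl6_e_0 : allZ (dent cl6 ch_P (nat_lit 6156)) (nat_lit 0) (nat_lit 1) = true := by decide +kernel
theorem cl6_h : 0 < cl6.n ∧ 0 < cl6.K ∧ cl6.Pt 0 < 6156 ∧ cl6.Q (cl6.Pt 0) = 0 := by decide +kernel
theorem c_f6 : (Nat.ble cl6.K 12 && Nat.ble (topK []) cl6.K && fixLetters ch_P (topK []) (cl6.Pt 0)) = true := by decide +kernel
theorem c_f5 : (Nat.ble cl5.K 12 && Nat.ble (topK [cl6]) cl5.K && fixLetters ch_P (topK [cl6]) (cl5.Pt 0)) = true := by decide +kernel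
theorem c_f4 : (Nat.ble cl4.K 12 && Nat.ble (topK [cl5, cl6]) cl4.K && fixLetters ch_P (topK [cl5, cl6]) (cl4.Pt 0)) = true := by decide +kernel
theorem c_f3 : (Nat.ble cl3.K 12 && Nat.ble (topK [cl4, cl5, cl6]) cl3.K && fixLetters ch_P (topK [cl4, cl5, cl6]) (cl3.Pt 0)) = true := by decide +kernel
theorem c_f2 : (Nat.ble cl2.K 12 && Nat.ble (topK [cl3, cl4, cl5, cl6]) cl2.K && fixLetters ch_P (topK [cl3, cl4, cl5, cl6]) (cl2.Pt 0)) = true := by decide +kernel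
theorem c_f1 : (Nat.ble cl1.K 12 && Nat.ble (topK [cl2, cl3, cl4, cl5, cl6]) cl1.K && fixLetters ch_P (topK [cl2, cl3, cl4, cl5, cl6]) (cl1.Pt 0)) = true := by decide +kernel
theorem c_f0 : (Nat.ble cl0.K 12 && Nat.ble (topK [cl1, cl2, cl3, cl4, cl5, cl6]) cl0.K && fixLetters ch_P (topK [cl1, cl2, cl3, cl4, cl5, cl6]) (cl0.Pt 0)) = true := by decide +kernel
theorem c_c : chainCard [cl0, cl1, cl2, cl3, cl4, cl5, cl6] = 50232960 := by decide +kernel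
theorem cce_lt : allL (ltAll 4) cce_W = true := by decide +kernel
theorem ccc6_e_0 : allZ (dent ccc6 cce_P (nat_lit 6156)) (nat_lit 0) (nat_lit 1) = true := by decide +kernel
theorem ccc6_h : 0 < ccc6.n ∧ 0 < ccc6.K ∧ ccc6.Pt 0 < 6156 ∧ ccc6.Q (ccc6.Pt 0) = 0 := by decide +kernel
theorem cn0_0 : (Nat.ble cl6.K 12 && Nat.beq (ltAll 6156 [cl5.Pt 0, cl4.Pt 0, cl3.Pt 0, cl2.Pt 0, cl1.Pt 0, cl0.Pt 0]) 0 && kChk cce_P x_P cn0.Kn 1 H16.J3.B [cl5.Pt 0, cl4.Pt 0, cl3.Pt 0, cl2.Pt 0, cl1.Pt 0, cl0.Pt 0] && allL (ltAll 1) cn0.pre && planOK ch_P x_P 1 (cl6.Pt 0) cn0.plan [cl6]) = true := by decide +kernel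
theorem cn0_1_0 : allZ (cn0.ent H16.J3.P ch_P x_P x_P cce_P (nat_lit 4) (nat_lit 1) H16.J3.B cl6 [] (memO ccc6)) (nat_lit 0) (nat_lit 2) = true := by decide +kernel
theorem cc_f6 : (Nat.ble ccc6.K 7 && Nat.ble (topK []) ccc6.K && Nat.beq (ccc6.Pt 0) (cl6.Pt 0) && Nat.beq (ltAll 6156 [cl5.Pt 0, cl4.Pt 0, cl3.Pt 0, cl2.Pt 0, cl1.Pt 0, cl0.Pt 0]) 0 && kChk cce_P x_P ccc6.K 1 H16.J3.B [cl5.Pt 0, cl4.Pt 0, cl3.Pt 0, cl2.Pt 0, cl1.Pt 0, cl0.Pt 0]) = true := by decide +kernel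
theorem cc_f5 : (Nat.ble cl5.K 12 && Nat.blt (nat_lit 80) 6156 && fixLetters ch_P cl5.K (nat_lit 80) && Nat.beq (ltAll 1 [nat_lit 0]) 0 && Nat.beq (apW x_P [nat_lit 0] (nat_lit 80)) (cl5.Pt 0)) = true := by decide +kernel
theorem ccc4_e_0 : allZ (dent ccc4 cce_P (nat_lit 6156)) (nat_lit 0) (nat_lit 1) = true := by decide +kernel
theorem ccc4_h : 0 < ccc4.n ∧ 0 < ccc4.K ∧ ccc4.Pt 0 < 6156 ∧ ccc4.Q (ccc4.Pt 0) = 0 := by decide +kernel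
theorem cn1_0 : (Nat.ble cl4.K 12 && Nat.beq (ltAll 6156 [cl3.Pt 0, cl2.Pt 0, cl1.Pt 0, cl0.Pt 0]) 0 && kChk cce_P x_P cn1.Kn 1 H16.J3.B [cl3.Pt 0, cl2.Pt 0, cl1.Pt 0, cl0.Pt 0] && allL (ltAll 1) cn1.pre && planOK ch_P x_P 1 (cl4.Pt 0) cn1.plan [cl4, cl5, cl6]) = true := by decide +kernel
theorem cn1_1_0 : allZ (cn1.ent H16.J3.P ch_P x_P x_P cce_P (nat_lit 4) (nat_lit 1) H16.J3.B cl4 [cl5, cl6] (memO ccc4)) (nat_lit 0) (nat_lit 2) = true := by decide +kernel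
theorem cc_f4 : (Nat.ble ccc4.K 7 && Nat.ble (topK [ccc6]) ccc4.K && Nat.beq (ccc4.Pt 0) (cl4.Pt 0) && Nat.beq (ltAll 6156 [cl3.Pt 0, cl2.Pt 0, cl1.Pt 0, cl0.Pt 0]) 0 && kChk cce_P x_P ccc4.K 1 H16.J3.B [cl3.Pt 0, cl2.Pt 0, cl1.Pt 0, cl0.Pt 0]) = true := by decide +kernel
theorem ccc3_e_0 : allZ (dent ccc3 cce_P (nat_lit 6156)) (nat_lit 0) (nat_lit 1) = true := by decide +kernel
theorem ccc3_h : 0 < ccc3.n ∧ 0 < ccc3.K ∧ ccc3.Pt 0 < 6156 ∧ ccc3.Q (ccc3.Pt 0) = 0 := by decide +kernel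
theorem cn2_0 : (Nat.ble cl3.K 12 && Nat.beq (ltAll 6156 [cl2.Pt 0, cl1.Pt 0, cl0.Pt 0]) 0 && kChk cce_P x_P cn2.Kn 1 H16.J3.B [cl2.Pt 0, cl1.Pt 0, cl0.Pt 0] && allL (ltAll 1) cn2.pre && planOK ch_P x_P 1 (cl3.Pt 0) cn2.plan [cl3, cl4, cl5, cl6]) = true := by decide +kernel
theorem cn2_1_0 : allZ (cn2.ent H16.J3.P ch_P x_P x_P cce_P (nat_lit 4) (nat_lit 1) H16.J3.B cl3 [cl4, cl5, cl6] (memO ccc3)) (nat_lit 0) (nat_lit 2) = true := by decide +kernel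
theorem cc_f3 : (Nat.ble ccc3.K 7 && Nat.ble (topK [ccc4, ccc6]) ccc3.K && Nat.beq (ccc3.Pt 0) (cl3.Pt 0) && Nat.beq (ltAll 6156 [cl2.Pt 0, cl1.Pt 0, cl0.Pt 0]) 0 && kChk cce_P x_P ccc3.K 1 H16.J3.B [cl2.Pt 0, cl1.Pt 0, cl0.Pt 0]) = true := by decide +kernel
theorem ccc2_e_0 : allZ (dent ccc2 cce_P (nat_lit 6156)) (nat_lit 0) (nat_lit 1) = true := by decide +kernel
theorem ccc2_h : 0 < ccc2.n ∧ 0 < ccc2.K ∧ ccc2.Pt 0 < 6156 ∧ ccc2.Q (ccc2.Pt 0) = 0 := by decide +kernel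
theorem cn3y6039_lt : allL (ltAll 4) cn3y6039_W = true := by decide +kernel
theorem cr4k_lt : allL (ltAll 4) cr4k_W = true := by decide +kernel
theorem cn4_0 : (Nat.ble cl3.K 12 && Nat.beq (ltAll 6156 [cl2.Pt 0, cl1.Pt 0, cl0.Pt 0]) 0 && kChk cr4k_P cn3y6039_P cn4.Kn 1 H16.J3.B [cl2.Pt 0, cl1.Pt 0, cl0.Pt 0] && allL (ltAll 1) cn4.pre && planOK ch_P x_P 1 (cl3.Pt 0) cn4.plan [cl3, cl4, cl5, cl6]) = true := by decide +kernel
theorem cn4_1_0 : allZ (cn4.ent H16.J3.P ch_P x_P cn3y6039_P cr4k_P (nat_lit 4) (nat_lit 1) H16.J3.B cl3 [cl4, cl5, cl6] (fun _ => nat_lit 1)) (nat_lit 0) (nat_lit 2) = true := by decide +kernel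
theorem cn3_0 : (Nat.ble cl2.K 12 && Nat.beq (ltAll 6156 [cl1.Pt 0, cl0.Pt 0]) 0 && kChk cce_P x_P cn3.Kn 1 H16.J3.B [cl1.Pt 0, cl0.Pt 0] && allL (ltAll 1) cn3.pre && planOK ch_P x_P 1 (cl2.Pt 0) cn3.plan [cl2, cl3, cl4, cl5, cl6]) = true := by decide +kernel
theorem cn3_1_0 : allZ (cn3.ent H16.J3.P ch_P x_P x_P cce_P (nat_lit 4) (nat_lit 1) H16.J3.B cl2 [cl3, cl4, cl5, cl6] (memO ccc2)) (nat_lit 0) (nat_lit 6) = true := by decide +kernel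
theorem cc_f2 : (Nat.ble ccc2.K 7 && Nat.ble (topK [ccc3, ccc4, ccc6]) ccc2.K && Nat.beq (ccc2.Pt 0) (cl2.Pt 0) && Nat.beq (ltAll 6156 [cl1.Pt 0, cl0.Pt 0]) 0 && kChk cce_P x_P ccc2.K 1 H16.J3.B [cl1.Pt 0, cl0.Pt 0]) = true := by decide +kernel
theorem ccc1_e_0 : allZ (dent ccc1 cce_P (nat_lit 6156)) (nat_lit 0) (nat_lit 1) = true := by decide +kernel
theorem ccc1_h : 0 < ccc1.n ∧ 0 < ccc1.K ∧ ccc1.Pt 0 < 6156 ∧ ccc1.Q (ccc1.Pt 0) = 0 := by decide +kernel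
theorem cn5y3435_lt : allL (ltAll 4) cn5y3435_W = true := by decide +kernel
theorem cr6k_lt : allL (ltAll 4) cr6k_W = true := by decide +kernel
theorem cn6y6039_lt : allL (ltAll 4) cn6y6039_W = true := by decide +kernel
theorem cr7k_lt : allL (ltAll 4) cr7k_W = true := by decide +kernel
theorem cn7y3071_lt : allL (ltAll 4) cn7y3071_W = true := by decide +kernel
theorem cr8k_lt : allL (ltAll 4) cr8k_W = true := by decide +kernel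
theorem cn8y80_lt : allL (ltAll 4) cn8y80_W = true := by decide +kernel
theorem cr9k_lt : allL (ltAll 4) cr9k_W = true := by decide +kernel
theorem cn9_0 : (Nat.ble cl6.K 12 && Nat.beq (ltAll 6156 [cl5.Pt 0, cl4.Pt 0, cl3.Pt 0, cl2.Pt 0, cl1.Pt 0, cl0.Pt 0]) 0 && kChk cr9k_P cn8y80_P cn9.Kn 1 H16.J3.B [cl5.Pt 0, cl4.Pt 0, cl3.Pt 0, cl2.Pt 0, cl1.Pt 0, cl0.Pt 0] && allL (ltAll 1) cn9.pre && planOK ch_P x_P 1 (cl6.Pt 0) cn9.plan [cl6]) = true := by decide +kernel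
theorem cn9_1_0 : allZ (cn9.ent H16.J3.P ch_P x_P cn8y80_P cr9k_P (nat_lit 4) (nat_lit 1) H16.J3.B cl6 [] (fun _ => nat_lit 1)) (nat_lit 0) (nat_lit 2) = true := by decide +kernel
theorem cn8_0 : (Nat.ble cl4.K 12 && Nat.beq (ltAll 6156 [cl3.Pt 0, cl2.Pt 0, cl1.Pt 0, cl0.Pt 0]) 0 && kChk cr8k_P cn7y3071_P cn8.Kn 1 H16.J3.B [cl3.Pt 0, cl2.Pt 0, cl1.Pt 0, cl0.Pt 0] && allL (ltAll 1) cn8.pre && planOK ch_P x_P 1 (cl4.Pt 0) cn8.plan [cl4, cl5, cl6]) = true := by decide +kernel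
theorem cn8_1_0 : allZ (cn8.ent H16.J3.P ch_P x_P cn7y3071_P cr8k_P (nat_lit 4) (nat_lit 1) H16.J3.B cl4 [cl5, cl6] (fun _ => nat_lit 1)) (nat_lit 0) (nat_lit 2) = true := by decide +kernel
theorem cn7_0 : (Nat.ble cl3.K 12 && Nat.beq (ltAll 6156 [cl2.Pt 0, cl1.Pt 0, cl0.Pt 0]) 0 && kChk cr7k_P cn6y6039_P cn7.Kn 1 H16.J3.B [cl2.Pt 0, cl1.Pt 0, cl0.Pt 0] && allL (ltAll 1) cn7.pre && planOK ch_P x_P 1 (cl3.Pt 0) cn7.plan [cl3, cl4, cl5, cl6]) = true := by decide +kernel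
theorem cn7_1_0 : allZ (cn7.ent H16.J3.P ch_P x_P cn6y6039_P cr7k_P (nat_lit 4) (nat_lit 1) H16.J3.B cl3 [cl4, cl5, cl6] (fun _ => nat_lit 1)) (nat_lit 0) (nat_lit 2) = true := by decide +kernel
theorem cn6y4547_lt : allL (ltAll 4) cn6y4547_W = true := by decide +kernel
theorem cr10k_lt : allL (ltAll 4) cr10k_W = true := by decide +kernel
theorem cn10_0 : (Nat.ble cl3.K 12 && Nat.beq (ltAll 6156 [cl2.Pt 0, cl1.Pt 0, cl0.Pt 0]) 0 && kChk cr10k_P cn6y4547_P cn10.Kn 1 H16.J3.B [cl2.Pt 0, cl1.Pt 0, cl0.Pt 0] && allL (ltAll 1) cn10.pre && planOK ch_P x_P 1 (cl3.Pt 0) cn10.plan [cl3, cl4, cl5, cl6]) = true := by decide +kernel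
theorem cn10_1_0 : allZ (cn10.ent H16.J3.P ch_P x_P cn6y4547_P cr10k_P (nat_lit 4) (nat_lit 1) H16.J3.B cl3 [cl4, cl5, cl6] (fun _ => nat_lit 1)) (nat_lit 0) (nat_lit 2) = true := by decide +kernel
theorem cn6_0 : (Nat.ble cl2.K 12 && Nat.beq (ltAll 6156 [cl1.Pt 0, cl0.Pt 0]) 0 && kChk cr6k_P cn5y3435_P cn6.Kn 1 H16.J3.B [cl1.Pt 0, cl0.Pt 0] && allL (ltAll 1) cn6.pre && planOK ch_P x_P 1 (cl2.Pt 0) cn6.plan [cl2, cl3, cl4, cl5, cl6]) = true := by decide +kernel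
theorem cn6_1_0 : allZ (cn6.ent H16.J3.P ch_P x_P cn5y3435_P cr6k_P (nat_lit 4) (nat_lit 1) H16.J3.B cl2 [cl3, cl4, cl5, cl6] (fun _ => nat_lit 1)) (nat_lit 0) (nat_lit 6) = true := by decide +kernel
theorem cn5y3436_lt : allL (ltAll 4) cn5y3436_W = true := by decide +kernel
theorem cr11k_lt : allL (ltAll 4) cr11k_W = true := by decide +kernel
theorem cn11_0 : (Nat.ble cl2.K 12 && Nat.beq (ltAll 6156 [cl1.Pt 0, cl0.Pt 0]) 0 && kChk cr11k_P cn5y3436_P cn11.Kn 1 H16.J3.B [cl1.Pt 0, cl0.Pt 0] && allL (ltAll 1) cn11.pre && planOK ch_P x_P 1 (cl2.Pt 0) cn11.plan [cl2, cl3, cl4, cl5, cl6]) = true := by decide +kernel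
theorem cn11_1_0 : allZ (cn11.ent H16.J3.P ch_P x_P cn5y3436_P cr11k_P (nat_lit 4) (nat_lit 1) H16.J3.B cl2 [cl3, cl4, cl5, cl6] (fun _ => nat_lit 1)) (nat_lit 0) (nat_lit 6) = true := by decide +kernel
theorem cn5_0 : (Nat.ble cl1.K 12 && Nat.beq (ltAll 6156 [cl0.Pt 0]) 0 && kChk cce_P x_P cn5.Kn 1 H16.J3.B [cl0.Pt 0] && allL (ltAll 1) cn5.pre && planOK ch_P x_P 1 (cl1.Pt 0) cn5.plan [cl1, cl2, cl3, cl4, cl5, cl6]) = true := by decide +kernel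
theorem cn5_1_0 : allZ (cn5.ent H16.J3.P ch_P x_P x_P cce_P (nat_lit 4) (nat_lit 1) H16.J3.B cl1 [cl2, cl3, cl4, cl5, cl6] (memO ccc1)) (nat_lit 0) (nat_lit 85) = true := by decide +kernel
theorem cc_f1 : (Nat.ble ccc1.K 7 && Nat.ble (topK [ccc2, ccc3, ccc4, ccc6]) ccc1.K && Nat.beq (ccc1.Pt 0) (cl1.Pt 0) && Nat.beq (ltAll 6156 [cl0.Pt 0]) 0 && kChk cce_P x_P ccc1.K 1 H16.J3.B [cl0.Pt 0]) = true := by decide +kernel
theorem ccc0_e_0 : allZ (dent ccc0 cce_P (nat_lit 6156)) (nat_lit 0) (nat_lit 59) = true := by decide +kernel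
theorem ccc0_h : 0 < ccc0.n ∧ 0 < ccc0.K ∧ ccc0.Pt 0 < 6156 ∧ ccc0.Q (ccc0.Pt 0) = 0 := by decide +kernel
theorem cn12y3663_lt : allL (ltAll 4) cn12y3663_W = true := by decide +kernel
theorem cr13k_lt : allL (ltAll 4) cr13k_W = true := by decide +kernel
theorem cn13y837_lt : allL (ltAll 4) cn13y837_W = true := by decide +kernel
theorem cr14k_lt : allL (ltAll 4) cr14k_W = true := by decide +kernel
theorem cn14_0 : (Nat.ble cl2.K 12 && Nat.beq (ltAll 6156 [cl1.Pt 0, cl0.Pt 0]) 0 && kChk cr14k_P cn13y837_P cn14.Kn 1 H16.J3.B [cl1.Pt 0, cl0.Pt 0] && allL (ltAll 1) cn14.pre && planOK ch_P x_P 1 (cl2.Pt 0) cn14.plan [cl2, cl3, cl4, cl5, cl6]) = true := by decide +kernel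
theorem cn14_1_0 : allZ (cn14.ent H16.J3.P ch_P x_P cn13y837_P cr14k_P (nat_lit 4) (nat_lit 1) H16.J3.B cl2 [cl3, cl4, cl5, cl6] (fun _ => nat_lit 1)) (nat_lit 0) (nat_lit 6) = true := by decide +kernel
theorem cn13_0 : (Nat.ble cl1.K 12 && Nat.beq (ltAll 6156 [cl0.Pt 0]) 0 && kChk cr13k_P cn12y3663_P cn13.Kn 1 H16.J3.B [cl0.Pt 0] && allL (ltAll 1) cn13.pre && planOK ch_P x_P 1 (cl1.Pt 0) cn13.plan [cl1, cl2, cl3, cl4, cl5, cl6]) = true := by decide +kernel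
theorem cn13_1_0 : allZ (cn13.ent H16.J3.P ch_P x_P cn12y3663_P cr13k_P (nat_lit 4) (nat_lit 1) H16.J3.B cl1 [cl2, cl3, cl4, cl5, cl6] (fun _ => nat_lit 1)) (nat_lit 0) (nat_lit 85) = true := by decide +kernel
theorem cn12_0 : (Nat.ble cl0.K 12 && Nat.beq (ltAll 6156 []) 0 && kChk cce_P x_P cn12.Kn 1 H16.J3.B [] && allL (ltAll 1) cn12.pre && planOK ch_P x_P 1 (cl0.Pt 0) cn12.plan [cl0, cl1, cl2, cl3, cl4, cl5, cl6]) = true := by decide +kernel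

end H16.J3C
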